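import Groth.Agent.SyntLCI.Gap
import Groth.Agent.CMLocus.Basic
import Groth.Agent.GrSegreLib.Dim
import Groth.Agent.DimTheory.Algebra
import Groth.Agent.RegLocus.Fiber
import Groth.Prelude.Def_EGA4b
import Mathlib

/-!
# Regular sequences on Cohen–Macaulay fibre local rings and dimensions
-/

set_option autoImplicit false

universe u

open IsLocalRing RingTheory.Sequence TensorProduct

namespace Groth.Agent.FibreRegular

/-- In a Cohen–Macaulay local ring regular sequences are those cutting down the dimension. -/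
theorem isRegular_iff_dim {R : Type u} [CommRing R] [LocCoh.IsCohenMacaulayLocalRing R]
    {l : List R} {d e : ℕ} (hl : Ideal.ofList l ≠ ⊤) (hd : ringKrullDim R = d)
    (he : ringKrullDim (R ⧸ Ideal.ofList l) = e) : IsRegular R l ↔ e + l.length = d := by
  have hw : IsWeaklyRegular R l ↔ e + l.length = d := by
    constructor
    · intro h
      have h1 := (CMAux.quot_ofList l R Depth.isCohenMacaulayModule_self (SyntLCI.mem_maximal_of_ne_top hl) h).2
      rw [SyntLCI.supportDim_ofList, Module.supportDim_self_eq_ringKrullDim, hd, he] at h1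
      exact_mod_cast h1
    · intro h
      refine S5758.isWeaklyRegular_of_supportDim l R Depth.isCohenMacaulayModule_self
        (SyntLCI.mem_maximal_of_ne_top hl) ?_
      rw [SyntLCI.supportDim_ofList, Module.supportDim_self_eq_ringKrullDim, hd, he]
      exact_mod_cast h
  rw [← hw]
  refine ⟨fun h => h.1, fun h => ⟨h, fun e => hl ?_⟩⟩
  rw [smul_eq_mul, Ideal.mul_top] at e
  exact e.symm

theorem ker_localRingHom_mk {S : Type u} [CommRing S] (I : Ideal S) (qb : Ideal (S ⧸ I)) [qb.IsPrime]
    (q : Ideal S) [q.IsPrime] (hq : q = qb.comap (Ideal.Quotient.mk I)) :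
    Function.Surjective (Localization.localRingHom q qb (Ideal.Quotient.mk I) hq) ∧
      RingHom.ker (Localization.localRingHom q qb (Ideal.Quotient.mk I) hq) =
        I.map (algebraMap S (Localization.AtPrime q)) := by
  constructor
  · intro y
    obtain ⟨a, s, rfl⟩ := IsLocalization.exists_mk'_eq qb.primeCompl y
    obtain ⟨a', rfl⟩ := Ideal.Quotient.mk_surjective a
    obtain ⟨s', hs'⟩ := Ideal.Quotient.mk_surjective (s : S ⧸ I)
    have hs'q : s' ∉ q := fun h => s.2 (hs' ▸ (hq ▸ h : s' ∈ qb.comap (Ideal.Quotient.mk I)))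
    refine ⟨IsLocalization.mk' _ a' (⟨s', hs'q⟩ : q.primeCompl), ?_⟩
    rw [Localization.localRingHom_mk']
    congr 1
    exact Subtype.ext hs'
  · refine le_antisymm (fun x hx => ?_) (Ideal.map_le_iff_le_comap.2 fun i hi => ?_)
    · obtain ⟨a, s, rfl⟩ := IsLocalization.exists_mk'_eq q.primeCompl x
      rw [RingHom.mem_ker, Localization.localRingHom_mk', IsLocalization.mk'_eq_zero_iff] at hx
      obtain ⟨⟨t, ht⟩, hta⟩ := hx
      obtain ⟨t', rfl⟩ := Ideal.Quotient.mk_surjective t
      rw [← map_mul, Ideal.Quotient.eq_zero_iff_mem] at hta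
      have ht' : t' ∉ q := fun h => ht (hq ▸ h : t' ∈ qb.comap (Ideal.Quotient.mk I))
      rw [IsLocalization.mk'_mem_map_algebraMap_iff]
      exact ⟨t', ht', hta⟩
    · rw [Ideal.mem_comap, RingHom.mem_ker, Localization.localRingHom_to_map,
        Ideal.Quotient.eq_zero_iff_mem.2 hi, map_zero]

/-- The fibre local ring is the local ring of the fibre. -/
theorem fibLoc_equiv {A B : Type u} [CommRing A] [CommRing B] [Algebra A B] (p : Ideal A) [p.IsPrime]
    (P : Ideal (p.Fiber B)) [P.IsPrime] (q : Ideal B) [q.IsPrime]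
    (hq : P.comap (Algebra.TensorProduct.includeRight : B →ₐ[A] p.Fiber B) = q) :
    Nonempty (Localization.AtPrime P ≃+* EGA4.FibLocRing A B q) := by
  subst hq
  have hp : (P.comap (Algebra.TensorProduct.includeRight : B →ₐ[A] p.Fiber B)).comap (algebraMap A B) = p :=
    congrArg PrimeSpectrum.asIdeal
      ((PrimeSpectrum.preimageOrderIsoFiber A B ⟨p, inferInstance⟩).symm ⟨P, inferInstance⟩).2
  exact ⟨(Ideal.Fiber.algEquivAux₂ p P).toRingEquiv.trans (Ideal.quotEquivOfEq (by
    rw [Ideal.map_map, ← IsScalarTower.algebraMap_eq, hp]))⟩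

/-- Equidimensional finitely generated algebras have constant local dimension. -/
theorem localDim_of_equidim (k : Type u) {F : Type u} [Field k] [CommRing F] [Algebra k F] [Algebra.FiniteType k F] (d : ℕ)
    (heq : ∀ P ∈ minimalPrimes F, ringKrullDim (F ⧸ P) = (d : WithBot ℕ∞)) (P : Ideal F) [P.IsPrime] :
    ringKrullDim (Localization.AtPrime P) + ringKrullDim (F ⧸ P) = (d : WithBot ℕ∞) := by
  haveI : IsNoetherianRing F := Algebra.FiniteType.isNoetherianRing k F
  apply le_antisymm
  · rw [← CMLocus.localDim_eq k F ⟨P, inferInstance⟩]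
    refine (TopDimLib.localDim_le_dim _).trans ?_
    rw [PrimeSpectrum.topologicalKrullDim_eq_ringKrullDim]
    exact GrSegreLib.dim_le_of_minimalPrimes fun Q hQ => (heq Q hQ).le
  · obtain ⟨P0, hP0, hle⟩ := Ideal.exists_minimalPrimes_le (I := (⊥ : Ideal F)) (J := P) bot_le
    haveI := hP0.1.1
    let P' := P.map (Ideal.Quotient.mk P0)
    haveI : P'.IsPrime := Ideal.map_isPrime_of_surjective Ideal.Quotient.mk_surjective (by rwa [Ideal.mk_ker])
    have hcm : P'.comap (Ideal.Quotient.mk P0) = P := by
      rw [Ideal.comap_map_of_surjective _ Ideal.Quotient.mk_surjective, ← RingHom.ker_eq_comap_bot, Ideal.mk_ker,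
        sup_eq_left.2 hle]
    rw [← heq P0 hP0, ← DimTheory.height_add_ringKrullDim_quotient' k P', add_comm]
    refine add_le_add ?_ (le_of_eq (ringKrullDim_eq_of_ringEquiv (DoubleQuot.quotQuotEquivQuotOfLE hle)))
    rw [IsLocalization.AtPrime.ringKrullDim_eq_height P]
    refine WithBot.coe_le_coe.2 ?_
    have e1 := PrimeSpectrum.height_eq_orderHeight (⟨P', inferInstance⟩ : PrimeSpectrum (F ⧸ P0))
    have e2 := PrimeSpectrum.height_eq_orderHeight (⟨P, inferInstance⟩ : PrimeSpectrum F)
    dsimp only at e1 e2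
    rw [e1, e2]
    have hmono : StrictMono (PrimeSpectrum.comap (Ideal.Quotient.mk P0)) := by
      refine Monotone.strictMono_of_injective (fun a b hab => Ideal.comap_mono hab) ?_
      exact PrimeSpectrum.comap_injective_of_surjective _ Ideal.Quotient.mk_surjective
    have e3 : PrimeSpectrum.comap (Ideal.Quotient.mk P0) ⟨P', inferInstance⟩ = (⟨P, inferInstance⟩ : PrimeSpectrum F) :=
      PrimeSpectrum.ext hcm
    have h := Order.height_le_height_apply_of_strictMono _ hmono (⟨P', inferInstance⟩ : PrimeSpectrum (F ⧸ P0))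
    rwa [e3] at h

/-- A surjection induces a surjection of fibre rings. -/
theorem exists_fibreMap {A B C : Type u} [CommRing A] [CommRing B] [CommRing C] [Algebra A B] [Algebra A C]
    (g : B →ₐ[A] C) (hg : Function.Surjective g) (p : Ideal A) [p.IsPrime] :
    ∃ π : p.Fiber B →+* p.Fiber C, Function.Surjective π ∧
      π.comp (Algebra.TensorProduct.includeRight : B →ₐ[A] p.Fiber B).toRingHom =
        (Algebra.TensorProduct.includeRight : C →ₐ[A] p.Fiber C).toRingHom.comp g.toRingHom := by
  refine ⟨(Algebra.TensorProduct.map (AlgHom.id A p.ResidueField) g).toRingHom, ?_, ?_⟩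
  · intro y
    induction y using TensorProduct.induction_on with
    | zero => exact ⟨0, map_zero _⟩
    | tmul a c =>
      obtain ⟨b, rfl⟩ := hg c
      exact ⟨a ⊗ₜ b, Algebra.TensorProduct.map_tmul _ _ _ _⟩
    | add y z hy hz =>
      obtain ⟨a, rfl⟩ := hy
      obtain ⟨b, rfl⟩ := hz
      exact ⟨a + b, map_add _ _ _⟩
  · exact RingHom.ext fun b => Algebra.TensorProduct.map_tmul _ _ _ _

end Groth.Agent.FibreRegular
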